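import Mathlib

/-!
Hyperplane sections of the hypersurface `∑ (Xᵢ Yᵢ^q - Yᵢ Xᵢ^q)` over a field with `q` elements
are singular: a jet of order `q` at the tangency point does not lift.
-/

set_option autoImplicit false
set_option backward.isDefEq.respectTransparency false
set_option backward.isDefEq.respectTransparency.types false

universe u

namespace Groth.Agent.Small9.HermitianSection

open Finset

variable {k : Type u} [Field k] [Fintype k] {ι : Type} [Fintype ι]

local notation "q" => Fintype.card k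

theorem jet_identity {R : Type*} [CommRing R] [Algebra k R] (a b : ι → k) (v v' : ι → R) (t : R) :
    ∑ i, ((algebraMap k R (a i) + t * v i) * (algebraMap k R (b i) + t * v' i) ^ q -
        (algebraMap k R (b i) + t * v' i) * (algebraMap k R (a i) + t * v i) ^ q) =
      t * (∑ i, (algebraMap k R (b i) * v i - algebraMap k R (a i) * v' i)) -
        (t * ∑ i, (algebraMap k R (b i) * v i - algebraMap k R (a i) * v' i)) ^ q +
        t ^ (q + 1) * ∑ i, (v i * v' i ^ q - v' i * v i ^ q) := by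
  have hφ : ∀ x : R, x ^ q = FiniteField.frobeniusAlgHom k R x := fun _ => rfl
  have hadd : ∀ (c : k) (x : R), (algebraMap k R c + t * x) ^ q = algebraMap k R c + t ^ q * x ^ q :=
    fun c x => by rw [hφ, map_add, AlgHom.commutes, map_mul]; rfl
  have hsum : (∑ i, (algebraMap k R (b i) * v i - algebraMap k R (a i) * v' i)) ^ q =
      ∑ i, (algebraMap k R (b i) * v i ^ q - algebraMap k R (a i) * v' i ^ q) := by
    rw [hφ, map_sum]
    refine sum_congr rfl fun i _ => ?_
    rw [map_sub, map_mul, map_mul, AlgHom.commutes, AlgHom.commutes]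
    rfl
  rw [mul_pow, hsum, mul_sum, mul_sum, mul_sum, ← sum_sub_distrib, ← sum_add_distrib]
  refine sum_congr rfl fun i _ => ?_
  rw [hadd, hadd]
  ring

/-- The truncated jet ring `k[s][t]/(t^(q+2))`. -/
abbrev Jet (k : Type u) [Field k] [Fintype k] :=
  AdjoinRoot ((Polynomial.X : Polynomial (Polynomial k)) ^ (Fintype.card k + 2))

open Polynomial in
theorem not_formallySmooth [Nontrivial ι] (F L : MvPolynomial (ι ⊕ ι) k)
    (hF : F = ∑ i : ι, (MvPolynomial.X (Sum.inl i) * MvPolynomial.X (Sum.inr i) ^ q -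
      MvPolynomial.X (Sum.inr i) * MvPolynomial.X (Sum.inl i) ^ q))
    (c : ι ⊕ ι → k) (hL : L = ∑ v, MvPolynomial.C (c v) * MvPolynomial.X v)
    (w : ι ⊕ ι) (hw : Sum.elim (fun i => -c (.inr i)) (fun i => c (.inl i)) w ≠ 0) :
    ¬ Algebra.FormallySmooth k
      (Localization.Away (Ideal.Quotient.mk (Ideal.span {F, L}) (MvPolynomial.X w))) := by
  intro hsm
  classical
  let P : ι ⊕ ι → k := Sum.elim (fun i => -c (.inr i)) (fun i => c (.inl i))
  -- the tangent direction `v = s e + f`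
  obtain ⟨w₁, hw₁⟩ : ∃ w₁, c w₁ ≠ 0 := by
    rcases w with i | i
    · exact ⟨.inr i, fun h => hw (by simp [h])⟩
    · exact ⟨.inl i, fun h => hw (by simp [h])⟩
  obtain ⟨j, hj⟩ := exists_ne (Sum.elim id id w₁)
  have hjl : (Sum.inl j : ι ⊕ ι) ≠ w₁ := fun h => hj (by rw [← h]; rfl)
  have hjr : (Sum.inr j : ι ⊕ ι) ≠ w₁ := fun h => hj (by rw [← h]; rfl)
  let z : ι ⊕ ι → k := Pi.single w₁ (c w₁)⁻¹
  let e : ι ⊕ ι → k := Pi.single (.inl j) 1 - c (.inl j) • z
  let f : ι ⊕ ι → k := Pi.single (.inr j) 1 - c (.inr j) • z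
  have hz : ∑ a, c a * z a = 1 := by simp [z, Pi.single_apply, hw₁]
  have hce : ∑ a, c a * e a = 0 := by
    simp only [e, Pi.sub_apply, Pi.smul_apply, smul_eq_mul, mul_sub, sum_sub_distrib, mul_left_comm _ (c (.inl j))]
    rw [← mul_sum, hz]
    simp [Pi.single_apply]
  have hcf : ∑ a, c a * f a = 0 := by
    simp only [f, Pi.sub_apply, Pi.smul_apply, smul_eq_mul, mul_sub, sum_sub_distrib, mul_left_comm _ (c (.inr j))]
    rw [← mul_sum, hz]
    simp [Pi.single_apply]
  have hef : ∑ i, (e (.inl i) * f (.inr i) - e (.inr i) * f (.inl i)) = 1 := by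
    rw [sum_eq_single j]
    · simp [e, f, z, hjl, hjr]
    · intro i _ hi
      simp [e, f, hi]
      ring
    · simp
  let v : ι ⊕ ι → k[X] := fun a => Polynomial.C (e a) * X + Polynomial.C (f a)
  have hcv : ∑ a, Polynomial.C (c a) * v a = 0 := by
    simp only [v, mul_add, sum_add_distrib, ← mul_assoc, ← sum_mul, ← map_mul, ← map_sum, hce, hcf,
      map_zero, zero_mul, add_zero]
  let G : k[X] := ∑ i, (v (.inl i) * v (.inr i) ^ q - v (.inr i) * v (.inl i) ^ q)
  have hG : G ≠ 0 := by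
    have hvq : ∀ a, v a ^ q = Polynomial.C (e a) * X ^ q + Polynomial.C (f a) := fun a => by
      change FiniteField.frobeniusAlgHom k k[X] (Polynomial.C (e a) * X + Polynomial.C (f a)) = _
      rw [map_add, map_mul]
      simp only [← Polynomial.algebraMap_eq, AlgHom.commutes]
      rfl
    have : G = (X - X ^ q) * Polynomial.C (∑ i, (e (.inl i) * f (.inr i) - e (.inr i) * f (.inl i))) := by
      rw [map_sum, mul_sum]
      refine sum_congr rfl fun i _ => ?_
      rw [hvq, hvq, map_sub, map_mul, map_mul]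
      simp only [v]
      ring
    rw [this, hef, map_one, mul_one, sub_ne_zero]
    intro h
    have := congrArg natDegree h
    rw [natDegree_X, natDegree_X_pow] at this
    exact Fintype.one_lt_card.ne this
  -- the jet rings
  let τ : (Jet k) := AdjoinRoot.mk ((X : k[X][X]) ^ (q + 2)) X
  let σ : k[X] →ₐ[k] (Jet k) := IsScalarTower.toAlgHom k k[X] (Jet k)
  have hτ : τ ^ (q + 2) = 0 := by
    rw [← map_pow, AdjoinRoot.mk_self]
  let I : Ideal (Jet k) := Ideal.span {τ ^ (q + 1)}
  have hI : IsNilpotent I := ⟨2, by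
    rw [Ideal.span_singleton_pow, Ideal.zero_eq_bot, Ideal.span_singleton_eq_bot, ← pow_mul,
      show (q + 1) * 2 = (q + 2) + q by ring, pow_add, hτ, zero_mul]⟩
  let x : ι ⊕ ι → (Jet k) := fun a => algebraMap k (Jet k) (P a) + τ * σ (v a)
  have hcP : ∑ a, c a * P a = 0 := by
    simp [P, Fintype.sum_sum_type, mul_comm]
  have evL : ∀ y : ι ⊕ ι → (Jet k), MvPolynomial.aeval (fun a => algebraMap k (Jet k) (P a) + τ * y a) L =
      τ * ∑ i, (algebraMap k (Jet k) (c (.inl i)) * y (.inl i) - algebraMap k (Jet k) (-c (.inr i)) * y (.inr i)) := by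
    intro y
    have h := congrArg (algebraMap k (Jet k)) hcP
    rw [map_sum, map_zero] at h
    rw [hL, map_sum]
    simp only [map_mul, MvPolynomial.aeval_C, MvPolynomial.aeval_X, mul_add, sum_add_distrib] at h ⊢
    rw [h, zero_add, Fintype.sum_sum_type, mul_sum, ← sum_add_distrib]
    refine sum_congr rfl fun i _ => ?_
    rw [map_neg]
    ring
  have evF : ∀ y : ι ⊕ ι → (Jet k), MvPolynomial.aeval (fun a => algebraMap k (Jet k) (P a) + τ * y a) F =
      MvPolynomial.aeval (fun a => algebraMap k (Jet k) (P a) + τ * y a) L -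
        MvPolynomial.aeval (fun a => algebraMap k (Jet k) (P a) + τ * y a) L ^ q +
        τ ^ (q + 1) * ∑ i, (y (.inl i) * y (.inr i) ^ q - y (.inr i) * y (.inl i) ^ q) := by
    intro y
    rw [evL, ← jet_identity, hF, map_sum]
    refine sum_congr rfl fun i _ => ?_
    simp [P]
  have hLx : MvPolynomial.aeval x L = 0 := by
    have h := congrArg σ hcv
    rw [map_sum, map_zero, Fintype.sum_sum_type] at h
    simp only [map_mul, ← Polynomial.algebraMap_eq, AlgHom.commutes] at h
    rw [evL, ← sum_add_distrib] at *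
    rw [show (∑ i, (algebraMap k (Jet k) (c (.inl i)) * σ (v (.inl i)) -
        algebraMap k (Jet k) (-c (.inr i)) * σ (v (.inr i)))) = 0 by simpa [sub_eq_add_neg] using h, mul_zero]
  have hFx : MvPolynomial.aeval x F = τ ^ (q + 1) * σ G := by
    rw [evF, hLx]
    simp [G, map_sum, map_sub, map_mul, map_pow, zero_pow Fintype.card_pos.ne']
  -- the jet of order `q`
  let π : MvPolynomial (ι ⊕ ι) k →ₐ[k] (Jet k) ⧸ I := (Ideal.Quotient.mkₐ k I).comp (MvPolynomial.aeval x)
  have hπ : ∀ m ∈ Ideal.span {F, L}, π m = 0 := by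
    refine fun m hm => RingHom.mem_ker.1 (Ideal.span_le.2 ?_ hm)
    rintro g (rfl | rfl) <;> rw [SetLike.mem_coe, RingHom.mem_ker] <;> simp only [π, AlgHom.comp_apply]
    · rw [hFx, Ideal.Quotient.mkₐ_eq_mk, Ideal.Quotient.eq_zero_iff_mem]
      exact Ideal.mul_mem_right _ _ (Ideal.mem_span_singleton_self _)
    · rw [hLx, map_zero]
  let R := MvPolynomial (ι ⊕ ι) k ⧸ Ideal.span {F, L}
  let π' : R →ₐ[k] (Jet k) ⧸ I := Ideal.Quotient.liftₐ _ π hπ
  let xw : R := Ideal.Quotient.mk (Ideal.span {F, L}) (MvPolynomial.X w)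
  have hu : IsUnit (π' xw) := by
    change IsUnit (π (MvPolynomial.X w))
    simp only [π, AlgHom.comp_apply, MvPolynomial.aeval_X, x]
    refine IsUnit.map (Ideal.Quotient.mkₐ k I) ?_
    exact IsNilpotent.isUnit_add_left_of_commute ((Commute.all τ (σ (v w))).isNilpotent_mul_right ⟨_, hτ⟩)
      ((isUnit_iff_ne_zero.2 hw).map (algebraMap k (Jet k))) (Commute.all _ _)
  let π'' : Localization.Away xw →ₐ[k] (Jet k) ⧸ I := IsLocalization.liftAlgHom (M := Submonoid.powers xw) (f := π') (by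
    rintro ⟨_, m, rfl⟩
    simpa using hu.pow m)
  obtain ⟨g, hg⟩ := Algebra.FormallySmooth.exists_lift I hI π''
  let ρ : MvPolynomial (ι ⊕ ι) k →ₐ[k] (Jet k) :=
    (g.comp (IsScalarTower.toAlgHom k R _)).comp (Ideal.Quotient.mkₐ k _)
  have hρ : ∀ m ∈ Ideal.span {F, L}, ρ m = 0 := fun m hm => by
    change g (algebraMap R _ (Ideal.Quotient.mk _ m)) = 0
    rw [Ideal.Quotient.eq_zero_iff_mem.2 hm, map_zero, map_zero]
  have hlift : ∀ a, ∃ u : (Jet k), ρ (MvPolynomial.X a) = x a + τ ^ (q + 1) * u := by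
    intro a
    have h : Ideal.Quotient.mk I (ρ (MvPolynomial.X a)) = Ideal.Quotient.mk I (x a) := by
      have := AlgHom.congr_fun hg (algebraMap R _ (Ideal.Quotient.mk _ (MvPolynomial.X a)))
      refine this.trans ?_
      refine (IsLocalization.lift_eq _ _).trans ?_
      change π (MvPolynomial.X a) = _
      simp [π]
    rw [Ideal.Quotient.eq, Ideal.mem_span_singleton] at h
    obtain ⟨u, hu⟩ := h
    exact ⟨u, eq_add_of_sub_eq' hu⟩
  choose u hu using hlift
  let y : ι ⊕ ι → (Jet k) := fun a => σ (v a) + τ ^ q * u a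
  have hρy : ρ = MvPolynomial.aeval fun a => algebraMap k (Jet k) (P a) + τ * y a := by
    refine MvPolynomial.algHom_ext fun a => ?_
    rw [hu, MvPolynomial.aeval_X]
    simp only [x, y]
    ring
  have hFy : MvPolynomial.aeval (fun a => algebraMap k (Jet k) (P a) + τ * y a) F = 0 := by
    rw [← hρy]; exact hρ _ (Ideal.subset_span (Set.mem_insert _ _))
  have hLy : MvPolynomial.aeval (fun a => algebraMap k (Jet k) (P a) + τ * y a) L = 0 := by
    rw [← hρy]; exact hρ _ (Ideal.subset_span (Set.mem_insert_of_mem _ rfl))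
  rw [evF, hLy, zero_pow Fintype.card_pos.ne', sub_zero, zero_add] at hFy
  have hyq : ∀ a, y a ^ q = σ (v a) ^ q + (τ ^ q) ^ q * u a ^ q := fun a => by
    change FiniteField.frobeniusAlgHom k (Jet k) _ = _
    rw [map_add, map_mul]
    rfl
  have h0 : τ ^ (q + 1) * τ = 0 := by rw [← pow_succ, hτ]
  obtain ⟨r, hr⟩ : ∃ r, q = r + 1 := ⟨q - 1, (Nat.sub_add_cancel Fintype.card_pos).symm⟩
  have hy : τ ^ (q + 1) * σ G = 0 := by
    rw [← hFy, map_sum, mul_sum, mul_sum]
    refine sum_congr rfl fun i _ => ?_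
    have h1 : τ ^ (q + 1) * τ ^ q = 0 := by
      rw [show τ ^ q = τ * τ ^ r by rw [← pow_succ', ← hr], ← mul_assoc, h0, zero_mul]
    have h2 : τ ^ (q + 1) * (τ ^ q) ^ q = 0 := by
      rw [show (τ ^ q) ^ q = τ ^ q * (τ ^ q) ^ r by rw [← pow_succ', ← hr], ← mul_assoc, h1, zero_mul]
    rw [hyq, hyq, map_sub, map_mul, map_mul, map_pow, map_pow]
    simp only [y]
    linear_combination (u (.inr i) * σ (v (.inl i)) ^ q - u (.inl i) * σ (v (.inr i)) ^ q) * h1 +
      (u (.inl i) ^ q * σ (v (.inr i)) + τ ^ q * u (.inr i) * u (.inl i) ^ q -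
        u (.inr i) ^ q * σ (v (.inl i)) - τ ^ q * u (.inl i) * u (.inr i) ^ q) * h2
  change AdjoinRoot.mk ((X : k[X][X]) ^ (q + 2)) X ^ (q + 1) * AdjoinRoot.mk ((X : k[X][X]) ^ (q + 2)) (Polynomial.C G) = 0 at hy
  rw [← map_pow, ← map_mul, AdjoinRoot.mk_eq_zero,
    pow_succ X (q + 1), mul_dvd_mul_iff_left (pow_ne_zero _ X_ne_zero), X_dvd_iff, coeff_C_zero] at hy
  exact hG hy

open AlgebraicGeometry CategoryTheory in
theorem not_smooth [Nontrivial ι] (F L : MvPolynomial (ι ⊕ ι) k)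
    (hF : F = ∑ i : ι, (MvPolynomial.X (Sum.inl i) * MvPolynomial.X (Sum.inr i) ^ q -
      MvPolynomial.X (Sum.inr i) * MvPolynomial.X (Sum.inl i) ^ q))
    (c : ι ⊕ ι → k) (hc : c ≠ 0) (hL : L = ∑ v, MvPolynomial.C (c v) * MvPolynomial.X v) :
    ¬ ∀ w : ι ⊕ ι, Smooth (Spec.map (CommRingCat.ofHom (algebraMap k
        (Localization.Away (Ideal.Quotient.mk (Ideal.span {F, L}) (MvPolynomial.X w)))))) := by
  intro hall
  obtain ⟨w, hw⟩ : ∃ w, Sum.elim (fun i => -c (.inr i)) (fun i => c (.inl i)) w ≠ 0 := by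
    obtain ⟨i | i, hi⟩ := Function.ne_iff.1 hc
    · exact ⟨.inr i, by simpa using hi⟩
    · exact ⟨.inl i, by simpa using hi⟩
  have h := hall w
  rw [HasRingHomProperty.Spec_iff (P := @Smooth), CommRingCat.hom_ofHom, RingHom.smooth_algebraMap] at h
  exact not_formallySmooth F L hF c hL w hw h.formallySmooth

end Groth.Agent.Small9.HermitianSection
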