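import Groth.Prelude.Def_Hoch
import Mathlib.RingTheory.Bialgebra.MonoidAlgebra
import Mathlib.Tactic

/-!
Hochschild cohomology of induced comodules and first cohomology of diagonalisable monoids.
-/

set_option autoImplicit false
set_option backward.isDefEq.respectTransparency false
set_option backward.isDefEq.respectTransparency.types false

universe u v w

open TensorProduct

noncomputable section

namespace Groth.Agent.Small9

section Main

variable (k : Type u) [CommRing k] (A : Type v) [Ring A] [Bialgebra k A]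

section Ind

variable (P : Type w) [AddCommGroup P] [Module k P]

/-- `(p ⊗ b) ⊗ c ↦ ε b • (p ⊗ c)`. -/
def s₀ : (P ⊗[k] A) ⊗[k] A →ₗ[k] P ⊗[k] A :=
  ((TensorProduct.rid k P).toLinearMap ∘ₗ (Coalgebra.counit (R := k) (A := A)).lTensor P).rTensor A

theorem s₀_tmul (p : P) (b c : A) : s₀ k A P ((p ⊗ₜ b) ⊗ₜ c) = (Coalgebra.counit (R := k) b • p) ⊗ₜ c := by
  simp [s₀]

theorem s₀_coact (x : P ⊗[k] A) : s₀ k A P (Hoch.Ind.coactAux k A P x) = x := by
  induction x using TensorProduct.induction_on with
  | zero => simp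
  | add u v hu hv => simp only [map_add, hu, hv]
  | tmul p a =>
    have key : ∀ z, s₀ k A P ((TensorProduct.assoc k P A A).symm (p ⊗ₜ z)) =
        p ⊗ₜ TensorProduct.lid k A ((Coalgebra.counit (R := k) (A := A)).rTensor A z) := fun z => by
      induction z using TensorProduct.induction_on with
      | zero => simp
      | add u v hu hv => simp only [TensorProduct.tmul_add, map_add, hu, hv]
      | tmul b c =>
        rw [TensorProduct.assoc_symm_tmul, s₀_tmul, LinearMap.rTensor_tmul, TensorProduct.lid_tmul,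
          TensorProduct.tmul_smul, TensorProduct.smul_tmul']
    rw [Hoch.Ind.coactAux_tmul, key, Coalgebra.rTensor_counit_comul, TensorProduct.lid_tmul, one_smul]

theorem range_eq_fixedPts :
    Function.Injective ((Hoch.Ind.equiv k A P).toLinearMap ∘ₗ (TensorProduct.mk k P A).flip (1 : A)) ∧
    LinearMap.range ((Hoch.Ind.equiv k A P).toLinearMap ∘ₗ (TensorProduct.mk k P A).flip (1 : A)) =
      HopfRep.fixedPts k A (Hoch.Ind k A P) := by
  let c : P ⊗[k] A →ₗ[k] P := (TensorProduct.rid k P).toLinearMap ∘ₗ (Coalgebra.counit (R := k) (A := A)).lTensor P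
  have hc : ∀ p, c (p ⊗ₜ 1) = p := fun p => by simp [c]
  refine ⟨fun p q h => by rw [← hc p, ← hc q]; exact congrArg c h, ?_⟩
  ext x
  constructor
  · rintro ⟨p, rfl⟩
    change Hoch.Ind.coactAux k A P (p ⊗ₜ 1) = (p ⊗ₜ[k] (1 : A)) ⊗ₜ[k] (1 : A)
    rw [Hoch.Ind.coactAux_tmul, Bialgebra.comul_one, Algebra.TensorProduct.one_def, TensorProduct.assoc_symm_tmul]
  · intro h
    change Hoch.Ind.coactAux k A P x = TensorProduct.tmul k (show P ⊗[k] A from x) (1 : A) at h
    refine ⟨c x, ?_⟩
    have h2 := (s₀_coact k A P x).symm.trans (congrArg (s₀ k A P) h)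
    exact h2.symm

end Ind

section Contraction

variable (P : Type v) [AddCommGroup P] [Module k P]

/-- The contracting homotopy. -/
def s : (n : ℕ) → ((Hoch.cochain k A (Hoch.Ind k A P) (n + 1) : Type v) →ₗ[k] (Hoch.cochain k A (Hoch.Ind k A P) n : Type v))
  | 0 => s₀ k A P
  | n + 1 => (s n).rTensor A

theorem tail_comm {M M' : Type v} [AddCommGroup M] [Module k M] [AddCommGroup M'] [Module k M'] (f : M →ₗ[k] M')
    (x : M ⊗[k] A) : (f.rTensor A).rTensor A (Hoch.tail k A M x) = Hoch.tail k A M' (f.rTensor A x) := by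
  induction x using TensorProduct.induction_on with
  | zero => simp
  | add u v hu hv => simp only [map_add, hu, hv]
  | tmul m a =>
    rw [Hoch.tail_tmul, LinearMap.rTensor_tmul, Hoch.tail_tmul]
    generalize Coalgebra.comul (R := k) a - a ⊗ₜ 1 - 1 ⊗ₜ a = z
    induction z using TensorProduct.induction_on with
    | zero => simp
    | add u v hu hv => simp only [TensorProduct.tmul_add, map_add, hu, hv]
    | tmul b c => simp

theorem homotopy_base (y : P ⊗[k] A) (a : A) :
    Hoch.Ind.coactAux k A P (s₀ k A P (y ⊗ₜ a)) - (s₀ k A P (y ⊗ₜ a)) ⊗ₜ[k] (1 : A) +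
      ((s₀ k A P).rTensor A ((Hoch.Ind.coactAux k A P y - y ⊗ₜ[k] (1 : A)) ⊗ₜ[k] a) -
        (s₀ k A P).rTensor A ((TensorProduct.assoc k (P ⊗[k] A) A A).symm
          (y ⊗ₜ (Coalgebra.comul (R := k) a - a ⊗ₜ 1 - 1 ⊗ₜ a)))) = y ⊗ₜ[k] a := by
  let c : P ⊗[k] A →ₗ[k] P := (TensorProduct.rid k P).toLinearMap ∘ₗ (Coalgebra.counit (R := k) (A := A)).lTensor P
  have key : ∀ z : A ⊗[k] A, (s₀ k A P).rTensor A ((TensorProduct.assoc k (P ⊗[k] A) A A).symm (y ⊗ₜ z)) =
      (TensorProduct.assoc k P A A).symm (c y ⊗ₜ z) := fun z => by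
    induction z using TensorProduct.induction_on with
    | zero => simp
    | add u v hu hv => simp only [TensorProduct.tmul_add, map_add, hu, hv]
    | tmul b d => simp [s₀, c]
  have hs : ∀ d, s₀ k A P (y ⊗ₜ d) = c y ⊗ₜ d := fun d => rfl
  rw [key, hs, LinearMap.rTensor_tmul, map_sub, s₀_coact, hs, TensorProduct.sub_tmul, TensorProduct.tmul_sub,
    TensorProduct.tmul_sub, map_sub, map_sub, Hoch.Ind.coactAux_tmul, TensorProduct.assoc_symm_tmul,
    TensorProduct.assoc_symm_tmul]
  abel

theorem neg_one_pow_succ_smul {M : Type*} [AddCommGroup M] [Module k M] (n : ℕ) (z : M) :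
    ((-1 : k) ^ (n + 1)) • z = -(((-1 : k) ^ n) • z) := by
  rw [pow_succ, mul_neg_one, neg_smul]

theorem homotopy : ∀ (n : ℕ) (x : (Hoch.cochain k A (Hoch.Ind k A P) (n + 1) : Type v)),
    Hoch.d k A (Hoch.Ind k A P) n (s k A P n x) + s k A P (n + 1) (Hoch.d k A (Hoch.Ind k A P) (n + 1) x) = x
  | 0, x => by
    induction x using TensorProduct.induction_on with
    | zero => simp
    | add u v hu hv =>
      simp only [map_add]
      exact (add_add_add_comm _ _ _ _).trans (congrArg₂ (· + ·) hu hv)
    | tmul y a =>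
      rw [Hoch.d_succ, LinearMap.add_apply, LinearMap.smul_apply, map_add, map_smul, neg_one_pow_succ_smul, pow_zero,
        one_smul, ← sub_eq_add_neg]
      exact homotopy_base k A P y a
  | n + 1, x => by
    have ih := homotopy n
    induction x using TensorProduct.induction_on with
    | zero => simp
    | add u v hu hv =>
      simp only [map_add]
      exact (add_add_add_comm _ _ _ _).trans (congrArg₂ (· + ·) hu hv)
    | tmul m a =>
      rw [Hoch.d_succ k A _ (n + 1), LinearMap.add_apply, LinearMap.smul_apply, map_add, map_smul, neg_one_pow_succ_smul]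
      change ((Hoch.d k A (Hoch.Ind k A P) (n + 1)) (s k A P n m ⊗ₜ[k] a)) +
        (s k A P (n + 1) (Hoch.d k A (Hoch.Ind k A P) (n + 1) m) ⊗ₜ[k] a +
          -(((-1 : k) ^ (n + 1)) • ((s k A P n).rTensor A).rTensor A (Hoch.tail k A _ (m ⊗ₜ[k] a)))) = m ⊗ₜ[k] a
      rw [tail_comm, LinearMap.rTensor_tmul]
      have e : Hoch.d k A (Hoch.Ind k A P) (n + 1) (s k A P n m ⊗ₜ[k] a) =
          Hoch.d k A (Hoch.Ind k A P) n (s k A P n m) ⊗ₜ[k] a +
            ((-1 : k) ^ (n + 1)) • Hoch.tail k A _ (s k A P n m ⊗ₜ[k] a) := rfl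
      rw [e]
      conv_rhs => rw [← ih m, TensorProduct.add_tmul]
      abel

theorem cocycles_ind_le (n : ℕ) :
    Hoch.cocycles k A (Hoch.Ind k A P) (n + 1) ≤ Hoch.coboundaries k A (Hoch.Ind k A P) (n + 1) := fun x hx =>
  ⟨s k A P n x, by
    have h := homotopy k A P n x
    rwa [show Hoch.d k A (Hoch.Ind k A P) (n + 1) x = 0 from hx, map_zero, add_zero] at h⟩

end Contraction

end Main

section Diag

variable (k : Type u) [CommRing k] (M : Type u) [AddCommMonoid M] (V : Type u) [AddCommGroup V] [Module k V]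
  [HopfRep.Comod k (AddMonoidAlgebra k M) V]

theorem cocycles_one_le :
    Hoch.cocycles k (AddMonoidAlgebra k M) V 1 ≤ Hoch.coboundaries k (AddMonoidAlgebra k M) V 1 := by
  classical
  let co : AddMonoidAlgebra k M →ₗ[k] k := (AddMonoidAlgebra.basis M k).coord 0
  let π : V ⊗[k] AddMonoidAlgebra k M →ₗ[k] V := (TensorProduct.rid k V).toLinearMap ∘ₗ co.lTensor V
  let π₀ : (V ⊗[k] AddMonoidAlgebra k M) ⊗[k] AddMonoidAlgebra k M →ₗ[k] V ⊗[k] AddMonoidAlgebra k M :=
    (TensorProduct.rid k _).toLinearMap ∘ₗ co.lTensor (V ⊗[k] AddMonoidAlgebra k M)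
  have key : ∀ f, π₀ (Hoch.d k (AddMonoidAlgebra k M) V 1 f) = Hoch.d k (AddMonoidAlgebra k M) V 0 (π f) + f := fun f => by
    induction f using TensorProduct.induction_on with
    | zero => simp
    | add u v hu hv =>
      simp only [map_add, hu, hv]
      exact add_add_add_comm _ _ _ _
    | tmul v a =>
      induction a using AddMonoidAlgebra.induction_linear with
      | zero => simp
      | add a b ha hb =>
        simp only [TensorProduct.tmul_add, map_add, ha, hb]
        exact add_add_add_comm _ _ _ _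
      | single m r =>
        have hr : AddMonoidAlgebra.single m r = r • AddMonoidAlgebra.single m (1 : k) := by simp
        rw [hr, TensorProduct.tmul_smul, map_smul, map_smul, map_smul, map_smul, ← smul_add]
        congr 1
        have hco : ∀ n : M, co (AddMonoidAlgebra.single n 1) = if n = 0 then 1 else 0 := fun n => by
          rw [← AddMonoidAlgebra.basis_apply, Module.Basis.coord_apply, Module.Basis.repr_self, Finsupp.single_apply]
        have hco1 : co 1 = 1 := by rw [AddMonoidAlgebra.one_def, hco, if_pos rfl]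
        rw [Hoch.d_succ, LinearMap.add_apply, LinearMap.smul_apply, map_add, map_smul, LinearMap.rTensor_tmul,
          Hoch.tail_tmul, AddMonoidAlgebra.comul_single, CommSemiring.comul_apply, TensorProduct.map_tmul,
          TensorProduct.tmul_sub, TensorProduct.tmul_sub]
        simp only [π, π₀, LinearMap.comp_apply, LinearEquiv.coe_coe, map_sub, TensorProduct.assoc_symm_tmul,
          LinearMap.lTensor_tmul, TensorProduct.rid_tmul, AddMonoidAlgebra.lsingle_apply, hco, hco1, map_smul, zero_add,
          pow_one, neg_one_smul, one_smul]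
        split_ifs with hm
        · subst hm
          rw [AddMonoidAlgebra.one_def]
          simp only [one_smul, map_one]
          abel
        · simp only [zero_smul, map_zero]
          abel
  intro f hf
  refine ⟨-π f, ?_⟩
  have h := key f
  rw [show Hoch.d k (AddMonoidAlgebra k M) V 1 f = 0 from hf, map_zero] at h
  rw [map_neg]
  exact neg_eq_of_add_eq_zero_right h.symm

end Diag

end Groth.Agent.Small9
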